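import Groth.Agent.UnibFib.Local
import Groth.Agent.FlatMor.GenericPts
import Groth.Agent.SchPoints.Basic
import Groth.Agent.GrpScheme.HomFlat
import Mathlib.AlgebraicGeometry.Morphisms.Preimmersion

/-!
# Complements of closed subsets with nowhere dense image over a unibranch base
-/

set_option autoImplicit false
set_option backward.isDefEq.respectTransparency false
set_option linter.style.haveILetI false

universe u

open CategoryTheory CategoryTheory.Limits AlgebraicGeometry TensorProduct

namespace Groth.Agent.UnibFib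

/-- A flat preimmersion into a reduced scheme has reduced source. -/
theorem isReduced_of_flat_preimmersion {P X : Scheme.{u}} (g : P ⟶ X) [Flat g] [IsPreimmersion g]
    [AlgebraicGeometry.IsReduced X] : AlgebraicGeometry.IsReduced P := by
  haveI : ∀ p : P, _root_.IsReduced (P.presheaf.stalk p) := fun p => by
    letI := (g.stalkMap p).hom.toAlgebra
    haveI : Module.Flat (X.presheaf.stalk (g p)) (P.presheaf.stalk p) := Flat.stalkMap g p
    haveI : IsLocalHom (algebraMap (X.presheaf.stalk (g p)) (P.presheaf.stalk p)) :=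
      inferInstanceAs (IsLocalHom (g.stalkMap p).hom)
    haveI : Module.FaithfullyFlat (X.presheaf.stalk (g p)) (P.presheaf.stalk p) :=
      Module.FaithfullyFlat.of_flat_of_isLocalHom
    let e := RingEquiv.ofBijective (g.stalkMap p).hom
      ⟨FaithfulSMul.algebraMap_injective (X.presheaf.stalk (g p)) (P.presheaf.stalk p),
        g.stalkMap_surjective p⟩
    exact isReduced_of_injective e.symm e.symm.injective
  exact isReduced_of_isReduced_stalk P

/-- The maps of local rings of a geometrically reduced morphism have geometrically reduced fibres. -/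
theorem isReduced_tensor_stalk {X Y : Scheme.{u}} (f : X ⟶ Y) [GeometricallyReduced f] (x : X)
    (L : Type u) [Field L] [Algebra (Y.presheaf.stalk (f x)) L] :
    letI := (f.stalkMap x).hom.toAlgebra
    _root_.IsReduced (L ⊗[Y.presheaf.stalk (f x)] X.presheaf.stalk x) := by
  letI := (f.stalkMap x).hom.toAlgebra
  let s : Spec (X.presheaf.stalk x) ⟶ Spec (Y.presheaf.stalk (f x)) := Spec.map (f.stalkMap x)
  let i : Spec (CommRingCat.of L) ⟶ Spec (Y.presheaf.stalk (f x)) :=
    Spec.map (CommRingCat.ofHom (algebraMap (Y.presheaf.stalk (f x)) L))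
  let j := Y.fromSpecStalk (f x)
  let xs := X.fromSpecStalk x
  haveI : Mono j := inferInstanceAs (Mono (Y.fromSpecStalk (f x)))
  haveI : AlgebraicGeometry.IsReduced (pullback f (i ≫ j)) :=
    GeometricallyReduced.geometrically_isReduced (f := f) (i ≫ j) (pullback.fst f (i ≫ j))
      (pullback.snd f (i ≫ j)) (IsPullback.of_hasPullback f (i ≫ j))
  have hsj : s ≫ j = xs ≫ f := Scheme.SpecMap_stalkMap_fromSpecStalk f
  have h1 : IsPullback (pullback.fst s i) (pullback.snd s i) (xs ≫ f) (i ≫ j) := by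
    rw [← hsj]
    exact IsPullback.of_isLimit
      (PullbackCone.isLimitOfCompMono s i j _ (IsPullback.of_hasPullback s i).isLimit)
  let g : pullback s i ⟶ pullback f (i ≫ j) :=
    pullback.lift (pullback.fst s i ≫ xs) (pullback.snd s i) (by rw [Category.assoc, h1.w])
  have h2 : IsPullback (pullback.fst s i) g xs (pullback.fst f (i ≫ j)) := by
    refine IsPullback.of_bot ?_ (pullback.lift_fst _ _ _).symm (IsPullback.of_hasPullback f (i ≫ j))
    rw [pullback.lift_snd]
    exact h1
  haveI : Flat g := MorphismProperty.of_isPullback h2 (GrpScheme.HomFlat.flat_fromSpecStalk x)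
  haveI : IsPreimmersion g := MorphismProperty.of_isPullback h2 (inferInstanceAs (IsPreimmersion (X.fromSpecStalk x)))
  haveI : AlgebraicGeometry.IsReduced (pullback s i) := isReduced_of_flat_preimmersion g
  haveI : AlgebraicGeometry.IsReduced
      (Spec (CommRingCat.of (X.presheaf.stalk x ⊗[Y.presheaf.stalk (f x)] L))) :=
    isReduced_of_isOpenImmersion (pullbackSpecIso (Y.presheaf.stalk (f x)) (X.presheaf.stalk x) L).inv
  haveI : _root_.IsReduced (X.presheaf.stalk x ⊗[Y.presheaf.stalk (f x)] L) :=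
    (affine_isReduced_iff _).mp this
  exact isReduced_of_injective _
    (Algebra.TensorProduct.comm (Y.presheaf.stalk (f x)) L (X.presheaf.stalk x)).injective

/-- The generisations of a point outside `T` form a connected set. -/
theorem isConnected_generizations_inter {X Y : Scheme.{u}} [IsLocallyNoetherian Y]
    (hY : ∀ y : Y, CAlg2.IsGeomUnibranch (Y.presheaf.stalk y)) (f : X ⟶ Y) [Flat f] [GeometricallyReduced f]
    (T : Set X) (hT' : interior (closure (f.base '' T)) = ∅) (x : X) :
    _root_.IsConnected (X.fromSpecStalk x '' (X.fromSpecStalk x ⁻¹' T)ᶜ) := by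
  letI := (f.stalkMap x).hom.toAlgebra
  haveI : IsLocalHom (algebraMap (Y.presheaf.stalk (f x)) (X.presheaf.stalk x)) :=
    inferInstanceAs (IsLocalHom (f.stalkMap x).hom)
  haveI : Module.Flat (Y.presheaf.stalk (f x)) (X.presheaf.stalk x) := Flat.stalkMap f x
  let A := Y.presheaf.stalk (f x)
  have hA := hY (f x)
  haveI : (nilradical A).IsPrime := (Ideal.Quotient.isDomain_iff_prime _).mp hA.1.1
  let η : PrimeSpectrum A := ⟨nilradical A, inferInstance⟩
  have hη : ∀ p : PrimeSpectrum A, η ⤳ p := fun p =>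
    (PrimeSpectrum.le_iff_specializes η p).mp (show nilradical A ≤ p.asIdeal from nilradical_le_prime p.asIdeal)
  -- the generic point avoids the closure of the image
  have hηC : Y.fromSpecStalk (f x) η ∉ closure (f.base '' T) := by
    have hd : Dense ((⟨(closure (f.base '' T))ᶜ, isClosed_closure.isOpen_compl⟩ : Y.Opens) : Set Y) :=
      interior_eq_empty_iff_dense_compl.mp hT'
    refine FlatMor.GenericPts.mem_of_dense hd ?_
    rw [FlatMor.GenericPts.closure_mem_irreducibleComponents_iff]
    intro z hz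
    have hz' : z ⤳ f x := by
      refine hz.trans ?_
      have h : Y.fromSpecStalk (f x) η ∈ Set.range (Y.fromSpecStalk (f x)) := ⟨η, rfl⟩
      rwa [Scheme.range_fromSpecStalk] at h
    obtain ⟨w, rfl⟩ : z ∈ Set.range (Y.fromSpecStalk (f x)) := by
      rw [Scheme.range_fromSpecStalk]; exact hz'
    exact (hη w).map (Y.fromSpecStalk (f x)).continuous
  have hcomm : ∀ Q : PrimeSpectrum (X.presheaf.stalk x),
      Y.fromSpecStalk (f x) (PrimeSpectrum.comap (algebraMap A (X.presheaf.stalk x)) Q) =
        f.base (X.fromSpecStalk x Q) := fun Q => by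
    show Y.fromSpecStalk (f x) (Spec.map (f.stalkMap x) Q) = _
    rw [← Scheme.Hom.comp_apply, Scheme.SpecMap_stalkMap_fromSpecStalk]
    rfl
  refine (isConnected_compl A (X.presheaf.stalk x) hA
    (fun L _ _ => isReduced_tensor_stalk f x L) (X.fromSpecStalk x ⁻¹' T) ?_).image _
    (X.fromSpecStalk x).continuous.continuousOn
  rw [Set.eq_empty_iff_forall_notMem]
  intro p hp
  have hmem : η ∈ closure (PrimeSpectrum.comap (algebraMap A (X.presheaf.stalk x)) '' (X.fromSpecStalk x ⁻¹' T)) :=
    interior_subset ((hη p).mem_open isOpen_interior hp)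
  have hsub : closure (PrimeSpectrum.comap (algebraMap A (X.presheaf.stalk x)) '' (X.fromSpecStalk x ⁻¹' T)) ⊆
      Y.fromSpecStalk (f x) ⁻¹' closure (f.base '' T) := by
    refine closure_minimal ?_ (isClosed_closure.preimage (Y.fromSpecStalk (f x)).continuous)
    rintro _ ⟨Q, hQ, rfl⟩
    show Y.fromSpecStalk (f x) (PrimeSpectrum.comap (algebraMap A (X.presheaf.stalk x)) Q) ∈ closure (f.base '' T)
    rw [hcomm]
    exact subset_closure ⟨_, hQ, rfl⟩
  exact hηC (hsub hmem)

/-- In a locally Noetherian scheme the closure of an open set consists of specializations. -/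
theorem exists_specializes_of_mem_closure {X : Scheme.{u}} [IsLocallyNoetherian X] (U : X.Opens) {x : X}
    (hx : x ∈ closure (U : Set X)) : ∃ z ∈ U, z ⤳ x := by
  haveI : QuasiCompact U.ι := inferInstance
  obtain ⟨z, hz⟩ := SchPoints.exists_specializes_of_mem_closure_range U.ι (by rwa [Scheme.Opens.range_ι])
  exact ⟨_, z.2, hz⟩

/-- The global form. -/
theorem isConnected_compl_global {X Y : Scheme.{u}} [IsLocallyNoetherian X] [IsLocallyNoetherian Y]
    [ConnectedSpace ↥X] (hY : ∀ y : Y, CAlg2.IsGeomUnibranch (Y.presheaf.stalk y))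
    (f : X ⟶ Y) [Flat f] [GeometricallyReduced f]
    (T : Set ↥X) (hT : IsClosed T) (hT' : interior (closure (f.base '' T)) = ∅) :
    _root_.IsConnected Tᶜ := by
  have hgen : ∀ x : X, _root_.IsConnected (X.fromSpecStalk x '' (X.fromSpecStalk x ⁻¹' T)ᶜ) :=
    isConnected_generizations_inter hY f T hT'
  have hmem : ∀ x z : X, z ∈ X.fromSpecStalk x '' (X.fromSpecStalk x ⁻¹' T)ᶜ ↔ z ⤳ x ∧ z ∈ Tᶜ := by
    intro x z
    constructor
    · rintro ⟨w, hw, rfl⟩
      refine ⟨?_, hw⟩
      have h : X.fromSpecStalk x w ∈ Set.range (X.fromSpecStalk x) := ⟨w, rfl⟩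
      rwa [Scheme.range_fromSpecStalk] at h
    · rintro ⟨hz, hzT⟩
      obtain ⟨w, rfl⟩ : z ∈ Set.range (X.fromSpecStalk x) := by
        rw [Scheme.range_fromSpecStalk]; exact hz
      exact ⟨w, hzT, rfl⟩
  have hne : ∀ x : X, ∃ z, z ⤳ x ∧ z ∈ Tᶜ := fun x => by
    obtain ⟨z, hz⟩ := (hgen x).nonempty
    exact ⟨z, (hmem x z).mp hz⟩
  refine ⟨?_, isPreconnected_iff_subset_of_disjoint.mpr fun u v hu hv huv hd => ?_⟩
  · obtain ⟨z, -, hz⟩ := hne (Classical.arbitrary X)
    exact ⟨z, hz⟩
  let C : Set X → Set X := fun w => {x | ∃ z, z ⤳ x ∧ z ∈ Tᶜ ∧ z ∈ w}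
  have hclosed : ∀ w : Set X, IsOpen w → IsClosed (C w) := fun w hw => by
    have hC : C w = closure ((⟨Tᶜ ∩ w, hT.isOpen_compl.inter hw⟩ : X.Opens) : Set X) := by
      ext x
      constructor
      · rintro ⟨z, hz, hzT, hzw⟩
        exact hz.mem_closed isClosed_closure (subset_closure ⟨hzT, hzw⟩)
      · intro hx
        obtain ⟨z, hzU, hz⟩ := exists_specializes_of_mem_closure _ hx
        exact ⟨z, hz, hzU.1, hzU.2⟩
    rw [hC]
    exact isClosed_closure
  have hdisj : ∀ x, x ∈ C u → x ∉ C v := by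
    rintro x ⟨z, hz, hzT, hzu⟩ ⟨z', hz', hzT', hzv⟩
    have hsub : X.fromSpecStalk x '' (X.fromSpecStalk x ⁻¹' T)ᶜ ⊆ u ∪ v :=
      fun a ha => huv ((hmem x a).mp ha).2
    obtain ⟨a, haG, hau⟩ := (hgen x).isPreconnected u v hu hv hsub
      ⟨z, (hmem x z).mpr ⟨hz, hzT⟩, hzu⟩ ⟨z', (hmem x z').mpr ⟨hz', hzT'⟩, hzv⟩
    exact Set.eq_empty_iff_forall_notMem.mp hd a ⟨((hmem x a).mp haG).2, hau⟩
  have hcover : ∀ x, x ∈ C u ∨ x ∈ C v := fun x => by
    obtain ⟨z, hz, hzT⟩ := hne x
    exact (huv hzT).imp (fun h => ⟨z, hz, hzT, h⟩) (fun h => ⟨z, hz, hzT, h⟩)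
  have hclop : IsClopen (C u) := ⟨hclosed u hu, by
    have : C u = (C v)ᶜ := Set.ext fun x => ⟨hdisj x, fun h => (hcover x).resolve_right h⟩
    rw [this]
    exact (hclosed v hv).isOpen_compl⟩
  rcases isClopen_iff.mp hclop with h | h
  · refine Or.inr fun z hz => (huv hz).resolve_left fun hzu => ?_
    exact Set.eq_empty_iff_forall_notMem.mp h z ⟨z, specializes_rfl, hz, hzu⟩
  · refine Or.inl fun z hz => (huv hz).resolve_right fun hzv => ?_
    exact hdisj z (h ▸ Set.mem_univ z) ⟨z, specializes_rfl, hz, hzv⟩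

end Groth.Agent.UnibFib
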