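import Groth.Agent.UnibFib.Global
import Groth.Agent.CAlgLib.Mori
import Groth.Agent.VarDim.Algebra

/-!
# Flat schemes over a geometrically unibranch local domain of dimension at least two, off the closed fibre
-/

set_option autoImplicit false
set_option backward.isDefEq.respectTransparency false
set_option linter.style.haveILetI false

universe u

open IsLocalRing TensorProduct
open CategoryTheory CategoryTheory.Limits AlgebraicGeometry

namespace Groth.Agent.UnibFib

/-- The fraction field of the reduction of a domain is its fraction field. -/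
theorem isFractionRing_red (A : Type u) [CommRing A] [IsDomain A] :
    IsFractionRing A (FractionRing (CAlg2.red A)) := by
  haveI : IsDomain (CAlg2.red A) := by
    haveI : (nilradical A).IsPrime := by
      rw [nilradical_eq_zero, Ideal.zero_eq_bot]; exact Ideal.isPrime_bot
    exact Ideal.Quotient.isDomain _
  have hinj : Function.Injective (Ideal.Quotient.mk (nilradical A)) := fun a b h => by
    have h' := Ideal.Quotient.eq.mp h
    rw [nilradical_eq_zero, Ideal.zero_eq_bot, Ideal.mem_bot, sub_eq_zero] at h'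
    exact h'
  refine ⟨⟨?_, fun z => ?_, fun {x y} h => ⟨1, ?_⟩⟩⟩
  · rintro ⟨a, ha⟩
    rw [IsScalarTower.algebraMap_apply A (CAlg2.red A) (FractionRing (CAlg2.red A))]
    refine isUnit_iff_ne_zero.mpr fun h => nonZeroDivisors.ne_zero ha (hinj ?_)
    rw [map_zero]
    exact IsFractionRing.to_map_eq_zero_iff.mp h
  · obtain ⟨p, q, hq, rfl⟩ := IsFractionRing.div_surjective (CAlg2.red A) z
    obtain ⟨a, rfl⟩ := Ideal.Quotient.mk_surjective p
    obtain ⟨s, rfl⟩ := Ideal.Quotient.mk_surjective q
    refine ⟨⟨a, s, mem_nonZeroDivisors_of_ne_zero fun h => nonZeroDivisors.ne_zero hq (by rw [h, map_zero])⟩, ?_⟩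
    rw [IsScalarTower.algebraMap_apply A (CAlg2.red A) (FractionRing (CAlg2.red A)),
      IsScalarTower.algebraMap_apply A (CAlg2.red A) (FractionRing (CAlg2.red A))]
    exact div_mul_cancel₀ _ (IsFractionRing.to_map_ne_zero_of_mem_nonZeroDivisors hq)
  · rw [IsScalarTower.algebraMap_apply A (CAlg2.red A) (FractionRing (CAlg2.red A)),
      IsScalarTower.algebraMap_apply A (CAlg2.red A) (FractionRing (CAlg2.red A))] at h
    exact congrArg _ (hinj (IsFractionRing.injective _ _ h))

variable (A B : Type u) [CommRing A] [IsDomain A] [IsLocalRing A] [IsNoetherianRing A]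

/-- In dimension at least two, an element of the fraction field defined off the closed point is
integral. -/
theorem isIntegral_of_forall_pow_mul (hA : CAlg2.IsGeomUnibranch A) (hdim : 2 ≤ ringKrullDim A)
    (x : FractionRing (CAlg2.red A))
    (hx : ∀ a ∈ maximalIdeal A, ∃ n : ℕ, ∃ b : A, algebraMap A (FractionRing (CAlg2.red A)) (a ^ n) * x = algebraMap A _ b) :
    IsIntegral A x := by
  classical
  haveI := hA.1.1
  haveI := isFractionRing_red A
  let K := FractionRing (CAlg2.red A)
  let S : Subalgebra A K := integralClosure A K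
  haveI : Algebra.IsIntegral A S := ⟨fun y => (isIntegral_algHom_iff S.val Subtype.val_injective).1 y.2⟩
  haveI : FaithfulSMul A S := (faithfulSMul_iff_algebraMap_injective A S).mpr fun a b h =>
    IsFractionRing.injective A K (congrArg Subtype.val h)
  have hloc : IsLocalRing S := by
    haveI := hA.1.2
    let ι : CAlg2.normRed A →+* S :=
      { toFun := fun y => ⟨y.1, by
          haveI : Algebra.IsIntegral A (CAlg2.red A) :=
            ⟨fun z => (Ideal.Quotient.mk_surjective z).elim fun a ha => ha ▸ isIntegral_algebraMap⟩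
          exact isIntegral_trans y.1 y.2⟩
        map_one' := rfl
        map_mul' := fun _ _ => rfl
        map_zero' := rfl
        map_add' := fun _ _ => rfl }
    haveI : Nontrivial S := inferInstance
    exact IsLocalRing.of_surjective' ι fun y => ⟨⟨y.1, IsIntegral.tower_top y.2⟩, rfl⟩
  haveI := hloc
  by_contra hxS
  let c := CAlgLib.Mori.finiteCut A K
  obtain ⟨q, hq, hq1, hle⟩ := CAlgLib.Mori.exists_heightOne c (x := x) hxS
  change Ideal S at q
  haveI : q.IsPrime := hq
  have hover : maximalIdeal A ≤ q.comap (algebraMap A S) := by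
    intro a ha
    obtain ⟨n, b, hb⟩ := hx a ha
    have hmem : algebraMap A S (a ^ n) ∈ q := hle (show ((algebraMap A S (a ^ n) : S) : K) * x ∈ S.toSubring from by
      rw [show ((algebraMap A S (a ^ n) : S) : K) = algebraMap A K (a ^ n) from rfl, hb]
      exact S.algebraMap_mem b)
    rw [map_pow] at hmem
    exact hq.mem_of_pow_mem n hmem
  haveI : (q.comap (algebraMap A S)).IsPrime := Ideal.IsPrime.comap _
  have hqmax : q.IsMaximal := Ideal.isMaximal_of_isIntegral_of_isMaximal_comap (R := A) q
    (by rw [← (IsLocalRing.maximalIdeal.isMaximal A).eq_of_le (Ideal.IsPrime.ne_top inferInstance) hover]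
        exact IsLocalRing.maximalIdeal.isMaximal A)
  have hdimS : ringKrullDim S = 1 := by
    rw [← IsLocalRing.maximalIdeal_height_eq_ringKrullDim, ← IsLocalRing.eq_maximalIdeal hqmax]
    exact congrArg _ hq1
  rw [VarDim.ringKrullDim_eq_of_isIntegral (R := A) (S := S)] at hdimS
  rw [hdimS] at hdim
  exact absurd hdim (by decide)

variable [CommRing B] [IsLocalRing B] [Algebra A B] [IsLocalHom (algebraMap A B)] [Module.Flat A B]

/-- The part of a flat local scheme off the closed fibre is connected. -/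
theorem isConnected_offClosedPoint (hA : CAlg2.IsGeomUnibranch A) (hdim : 2 ≤ ringKrullDim A) :
    _root_.IsConnected (PrimeSpectrum.comap (algebraMap A B) ⁻¹' {IsLocalRing.closedPoint A}ᶜ) := by
  classical
  haveI := hA.1.1
  haveI := isFractionRing_red A
  let K := FractionRing (CAlg2.red A)
  let W : Set (PrimeSpectrum B) := PrimeSpectrum.comap (algebraMap A B) ⁻¹' {IsLocalRing.closedPoint A}ᶜ
  have hm0 : maximalIdeal A ≠ ⊥ := fun h => by
    have h1 := (IsLocalRing.maximalIdeal_height_eq_ringKrullDim (R := A))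
    rw [h, Ideal.height_bot] at h1
    rw [← h1] at hdim
    exact absurd hdim (by decide)
  -- generic points of `W`
  have hgenW : ∀ Q : PrimeSpectrum B, ∃ P ∈ W, P ⤳ Q ∧ P.asIdeal.comap (algebraMap A B) = ⊥ := fun Q => by
    obtain ⟨P, hPQ, hP, hover⟩ := Ideal.exists_ideal_le_liesOver_of_le (p := (⊥ : Ideal A))
      (q := Q.asIdeal.under A) Q.asIdeal bot_le
    refine ⟨⟨P, hP⟩, fun h => hm0 ?_, (PrimeSpectrum.le_iff_specializes ⟨P, hP⟩ Q).mp hPQ, hover.over.symm⟩
    rw [hover.over]
    exact (congrArg PrimeSpectrum.asIdeal h).symm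
  refine ⟨(hgenW (IsLocalRing.closedPoint B)).imp fun P h => h.1,
    isPreconnected_iff_subset_of_disjoint.mpr fun u v hu hv huv hd => ?_⟩
  let g : B →+* K ⊗[A] B := (Algebra.TensorProduct.includeRight : B →ₐ[A] K ⊗[A] B).toRingHom
  have hzero : ∀ (P : PrimeSpectrum (K ⊗[A] B)) (a : A), g (algebraMap A B a) ∈ P.asIdeal → a = 0 := by
    intro P a ha
    by_contra hne
    refine P.isPrime.ne_top (Ideal.eq_top_of_isUnit_mem _ ha ?_)
    rw [show g (algebraMap A B a) = algebraMap A (K ⊗[A] B) a from AlgHom.commutes _ a,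
      IsScalarTower.algebraMap_apply A K (K ⊗[A] B)]
    exact (isUnit_iff_ne_zero.mpr ((map_ne_zero_iff _ (IsFractionRing.injective A K)).mpr hne)).map _
  have hgW : ∀ P : PrimeSpectrum (K ⊗[A] B), PrimeSpectrum.comap g P ∈ W := fun P h => hm0 (by
    refine (Submodule.eq_bot_iff _).mpr fun a ha => hzero P a ?_
    exact ((congrArg PrimeSpectrum.asIdeal h).ge ha : a ∈ (PrimeSpectrum.comap g P).asIdeal.comap (algebraMap A B)))
  -- the clopen piece on the generic fibre
  let s : Set (PrimeSpectrum (K ⊗[A] B)) := PrimeSpectrum.comap g ⁻¹' u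
  have hs : IsClopen s := by
    refine ⟨?_, hu.preimage (PrimeSpectrum.continuous_comap g)⟩
    have : s = (PrimeSpectrum.comap g ⁻¹' v)ᶜ := Set.ext fun P =>
      ⟨fun h h' => Set.eq_empty_iff_forall_notMem.mp hd _ ⟨hgW P, h, h'⟩,
        fun h => (huv (hgW P)).resolve_right h⟩
    rw [this]
    exact (hv.preimage (PrimeSpectrum.continuous_comap g)).isClosed_compl
  obtain ⟨e, he, hse⟩ := PrimeSpectrum.exists_idempotent_basicOpen_eq_of_isClopen hs
  -- it is defined over every `A_a`
  have hloc : ∀ a ∈ maximalIdeal A, a ≠ 0 → ∀ φ : Localization.Away a →ₐ[A] K,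
      e ∈ Set.range (Algebra.TensorProduct.map φ (AlgHom.id A B)) := by
    intro a ha ha0 φ
    let ga : B →+* Localization.Away a ⊗[A] B :=
      (Algebra.TensorProduct.includeRight : B →ₐ[A] Localization.Away a ⊗[A] B).toRingHom
    have hW : ∀ P : PrimeSpectrum (Localization.Away a ⊗[A] B), PrimeSpectrum.comap ga P ∈ W := fun P h => by
      have h1 : ga (algebraMap A B a) ∈ P.asIdeal :=
        ((congrArg PrimeSpectrum.asIdeal h).ge ha : a ∈ (PrimeSpectrum.comap ga P).asIdeal.comap (algebraMap A B))
      refine P.isPrime.ne_top (Ideal.eq_top_of_isUnit_mem _ h1 ?_)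
      rw [show ga (algebraMap A B a) = algebraMap A (Localization.Away a ⊗[A] B) a from AlgHom.commutes _ a,
        IsScalarTower.algebraMap_apply A (Localization.Away a) (Localization.Away a ⊗[A] B)]
      exact (IsLocalization.Away.algebraMap_isUnit a).map _
    have hclop : IsClopen (PrimeSpectrum.comap ga ⁻¹' u) := by
      refine ⟨?_, hu.preimage (PrimeSpectrum.continuous_comap ga)⟩
      have : PrimeSpectrum.comap ga ⁻¹' u = (PrimeSpectrum.comap ga ⁻¹' v)ᶜ := Set.ext fun P =>
        ⟨fun h h' => Set.eq_empty_iff_forall_notMem.mp hd _ ⟨hW P, h, h'⟩,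
          fun h => (huv (hW P)).resolve_right h⟩
      rw [this]
      exact (hv.preimage (PrimeSpectrum.continuous_comap ga)).isClosed_compl
    obtain ⟨ea, hea, hsea⟩ := PrimeSpectrum.exists_idempotent_basicOpen_eq_of_isClopen hclop
    refine ⟨ea, PrimeSpectrum.basicOpen_injOn_isIdempotentElem (hea.map _) he (SetLike.ext' ?_)⟩
    rw [← hse]
    ext P
    let Φ := (Algebra.TensorProduct.map φ (AlgHom.id A B)).toRingHom
    have hg : PrimeSpectrum.comap g P = PrimeSpectrum.comap ga (PrimeSpectrum.comap Φ P) := by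
      refine PrimeSpectrum.ext (Ideal.ext fun b => ?_)
      show g b ∈ P.asIdeal ↔ Φ (ga b) ∈ P.asIdeal
      rw [show Φ (ga b) = g b from by
        show Algebra.TensorProduct.map φ (AlgHom.id A B) (1 ⊗ₜ b) = 1 ⊗ₜ b
        rw [Algebra.TensorProduct.map_tmul, map_one, AlgHom.id_apply]]
    show Φ ea ∉ P.asIdeal ↔ PrimeSpectrum.comap g P ∈ u
    rw [hg]
    exact (Set.ext_iff.mp hsea (PrimeSpectrum.comap Φ P)).symm
  -- hence it is integral over the base
  obtain ⟨t, ht⟩ := (inferInstance : IsNoetherian A A).noetherian (maximalIdeal A)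
  let t' := t.filter (· ≠ 0)
  have hunit : ∀ a : t', IsUnit (algebraMap A K a.1) := fun a =>
    isUnit_iff_ne_zero.mpr ((map_ne_zero_iff _ (IsFractionRing.injective A K)).mpr (Finset.mem_filter.mp a.2).2)
  let φ : ∀ a : t', Localization.Away a.1 →ₐ[A] K := fun a =>
    { toRingHom := IsLocalization.Away.lift a.1 (hunit a)
      commutes' := fun r => IsLocalization.Away.lift_eq a.1 (hunit a) r }
  let Q : t' → Type u := fun a => K ⧸ LinearMap.range (φ a).toLinearMap
  let ψ : K →ₗ[A] (∀ a : t', Q a) := LinearMap.pi fun a => (LinearMap.range (φ a).toLinearMap).mkQ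
  have hkerψ : LinearMap.ker ψ ≤ Subalgebra.toSubmodule (integralClosure A K) := by
    intro x hx
    have hrange : ∀ a : t', ∃ z, φ a z = x := fun a => by
      have := congrFun (LinearMap.mem_ker.mp hx) a
      exact (Submodule.Quotient.mk_eq_zero _).mp this
    let I : Ideal A :=
      { carrier := {r | algebraMap A K r * x ∈ (algebraMap A K).range}
        add_mem' := fun {r r'} h h' => by
          show algebraMap A K (r + r') * x ∈ (algebraMap A K).range
          rw [map_add, add_mul]; exact add_mem h h'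
        zero_mem' := by show algebraMap A K 0 * x ∈ (algebraMap A K).range; rw [map_zero, zero_mul]; exact zero_mem _
        smul_mem' := fun r r' h => by
          show algebraMap A K (r • r') * x ∈ (algebraMap A K).range
          rw [smul_eq_mul, map_mul, mul_assoc]; exact mul_mem ⟨r, rfl⟩ h }
    refine isIntegral_of_forall_pow_mul A hA hdim x fun a ha => ?_
    have hle : maximalIdeal A ≤ I.radical := by
      rw [← ht, Ideal.span_le]
      intro r hr
      by_cases hr0 : r = 0
      · rw [hr0]; exact zero_mem _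
      obtain ⟨z, hz⟩ := hrange ⟨r, Finset.mem_filter.mpr ⟨hr, hr0⟩⟩
      obtain ⟨n, b, hb⟩ := IsLocalization.Away.surj (S := Localization.Away r) r z
      refine ⟨n, b, ?_⟩
      have := congrArg (φ ⟨r, Finset.mem_filter.mpr ⟨hr, hr0⟩⟩) hb
      rw [map_mul, hz, AlgHom.commutes, map_pow, AlgHom.commutes] at this
      rw [map_pow, mul_comm, this]
    obtain ⟨n, b, hb⟩ := hle ha
    exact ⟨n, b, hb.symm⟩
  obtain ⟨f, hf⟩ : ∃ f : integralClosure A K ⊗[A] B,
      Algebra.TensorProduct.map (integralClosure A K).val (AlgHom.id A B) f = e := by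
    have h0 : ψ.rTensor B e = 0 := by
      refine (TensorProduct.piLeft A B Q).injective ?_
      rw [map_zero]
      funext a
      obtain ⟨w, hw⟩ := hloc a.1 (ht ▸ Submodule.subset_span (Finset.mem_filter.mp a.2).1)
        (Finset.mem_filter.mp a.2).2 (φ a)
      rw [← hw, Pi.zero_apply]
      clear hw
      induction w using TensorProduct.induction_on with
      | zero => simp
      | tmul z b =>
        simp only [Algebra.TensorProduct.map_tmul, LinearMap.rTensor_tmul, AlgHom.id_apply, TensorProduct.piLeft, LinearEquiv.trans_apply, TensorProduct.comm_tmul, TensorProduct.piRight_apply, TensorProduct.piRightHom_tmul, LinearEquiv.piCongrRight_apply]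
        show Submodule.Quotient.mk (φ a z) ⊗ₜ[A] b = 0
        rw [(Submodule.Quotient.mk_eq_zero (LinearMap.range (φ a).toLinearMap) (x := φ a z)).mpr (LinearMap.mem_range_self (φ a).toLinearMap z), TensorProduct.zero_tmul]
      | add y z hy hz => simp only [map_add, Pi.add_apply, hy, hz, add_zero]
    obtain ⟨w, hw⟩ := (Module.Flat.rTensor_exact (M := B) (LinearMap.exact_subtype_ker_map ψ) e).1 h0
    refine ⟨(Submodule.inclusion hkerψ).rTensor B w, ?_⟩
    rw [← hw]
    clear hw
    induction w using TensorProduct.induction_on with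
    | zero => simp
    | tmul z b => rfl
    | add y z hy hz => simp only [map_add, hy, hz]
  haveI := isLocalRing_tensor A B hA
  letI : CommRing (integralClosure A K ⊗[A] B) := inferInstance
  have hinj : Function.Injective (Algebra.TensorProduct.map (integralClosure A K).val (AlgHom.id A B)) :=
    Module.Flat.rTensor_preserves_injective_linearMap (M := B) (integralClosure A K).val.toLinearMap Subtype.val_injective
  have hidem : IsIdempotentElem f := hinj (by rw [map_mul, hf]; exact he)
  have hcase : e = 0 ∨ e = 1 := by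
    rcases IsLocalRing.isUnit_or_isUnit_one_sub_self f with hu' | hu'
    · exact Or.inr (by rw [← hf, (IsUnit.mul_eq_left hu').1 hidem.eq, map_one])
    · have h0 : (1 - f) * f = 0 := (IsIdempotentElem.one_sub_mul_self (R := integralClosure A K ⊗[A] B) hidem :)
      exact Or.inl (by rw [← hf, hu'.mul_right_eq_zero.1 h0, map_zero])
  -- points over the generic point are in one piece, and they generate `W`
  have hlift : ∀ P : PrimeSpectrum B, P.asIdeal.comap (algebraMap A B) = ⊥ → ∃ P', PrimeSpectrum.comap g P' = P := by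
    intro P hP
    let L := P.asIdeal.ResidueField
    have hj : Function.Injective (algebraMap A L) := by
      rw [injective_iff_map_eq_zero]
      intro r hr
      rw [IsScalarTower.algebraMap_apply A B L, Ideal.algebraMap_residueField_eq_zero] at hr
      exact (Submodule.eq_bot_iff _).mp hP r hr
    let jK : K →ₐ[A] L :=
      { toRingHom := IsFractionRing.lift hj
        commutes' := fun a => IsFractionRing.lift_algebraMap hj a }
    let h : K ⊗[A] B →ₐ[A] L := Algebra.TensorProduct.productMap jK (IsScalarTower.toAlgHom A B L)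
    refine ⟨⟨RingHom.ker h.toRingHom, RingHom.ker_isPrime _⟩, PrimeSpectrum.ext ?_⟩
    ext b
    show h (1 ⊗ₜ b) = 0 ↔ b ∈ P.asIdeal
    rw [Algebra.TensorProduct.productMap_apply_tmul, map_one, one_mul]
    exact Ideal.algebraMap_residueField_eq_zero
  have hall : (∀ P, P.asIdeal.comap (algebraMap A B) = ⊥ → P ∈ v) ∨
      (∀ P, P.asIdeal.comap (algebraMap A B) = ⊥ → P ∈ u) := by
    rcases hcase with h | h
    · refine Or.inl fun P hP => ?_
      obtain ⟨P', rfl⟩ := hlift P hP
      refine (huv (hgW P')).resolve_left fun hP' => ?_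
      have : P' ∈ (PrimeSpectrum.basicOpen e : Set (PrimeSpectrum (K ⊗[A] B))) := hse.le hP'
      rw [h, PrimeSpectrum.basicOpen_zero] at this
      exact this
    · refine Or.inr fun P hP => ?_
      obtain ⟨P', rfl⟩ := hlift P hP
      exact hse.ge (by rw [h, PrimeSpectrum.basicOpen_one]; trivial)
  rcases hall with h | h
  · refine Or.inr fun Q hQ => (huv hQ).resolve_left fun hQu => ?_
    obtain ⟨P, hPW, hPQ, hP⟩ := hgenW Q
    exact Set.eq_empty_iff_forall_notMem.mp hd P ⟨hPW, hPQ.mem_open hu hQu, h P hP⟩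
  · refine Or.inl fun Q hQ => (huv hQ).resolve_right fun hQv => ?_
    obtain ⟨P, hPW, hPQ, hP⟩ := hgenW Q
    exact Set.eq_empty_iff_forall_notMem.mp hd P ⟨hPW, h P hP, hPQ.mem_open hv hQv⟩

omit [IsDomain A] [IsLocalRing A] [IsNoetherianRing A] [CommRing B] [IsLocalRing B] [Algebra A B]
  [IsLocalHom (algebraMap A B)] [Module.Flat A B] in
/-- Connectedness from connectedness of the generisations of each point. -/
theorem isConnected_compl_of_generizations {X : Scheme.{u}} [IsLocallyNoetherian X] [ConnectedSpace ↥X]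
    (T : Set ↥X) (hT : IsClosed T) (hgen : ∀ x : X, _root_.IsConnected {z : X | z ⤳ x ∧ z ∉ T}) :
    _root_.IsConnected Tᶜ := by
  refine ⟨?_, isPreconnected_iff_subset_of_disjoint.mpr fun u v hu hv huv hd => ?_⟩
  · obtain ⟨z, -, hz⟩ := (hgen (Classical.arbitrary X)).nonempty
    exact ⟨z, hz⟩
  let C : Set X → Set X := fun w => {x | ∃ z, z ⤳ x ∧ z ∈ Tᶜ ∧ z ∈ w}
  have hclosed : ∀ w : Set X, IsOpen w → IsClosed (C w) := fun w hw => by
    have hC : C w = closure ((⟨Tᶜ ∩ w, hT.isOpen_compl.inter hw⟩ : X.Opens) : Set X) := by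
      ext x
      constructor
      · rintro ⟨z, hz, hzT, hzw⟩
        exact hz.mem_closed isClosed_closure (subset_closure ⟨hzT, hzw⟩)
      · intro hx
        obtain ⟨z, hzU, hz⟩ := exists_specializes_of_mem_closure _ hx
        exact ⟨z, hz, hzU.1, hzU.2⟩
    rw [hC]
    exact isClosed_closure
  have hdisj : ∀ x, x ∈ C u → x ∉ C v := by
    rintro x ⟨z, hz, hzT, hzu⟩ ⟨z', hz', hzT', hzv⟩
    obtain ⟨a, haG, hau⟩ := (hgen x).isPreconnected u v hu hv (fun a ha => huv ha.2)
      ⟨z, ⟨hz, hzT⟩, hzu⟩ ⟨z', ⟨hz', hzT'⟩, hzv⟩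
    exact Set.eq_empty_iff_forall_notMem.mp hd a ⟨haG.2, hau⟩
  have hcover : ∀ x, x ∈ C u ∨ x ∈ C v := fun x => by
    obtain ⟨z, hz, hzT⟩ := (hgen x).nonempty
    exact (huv hzT).imp (fun h => ⟨z, hz, hzT, h⟩) (fun h => ⟨z, hz, hzT, h⟩)
  have hclop : IsClopen (C u) := ⟨hclosed u hu, by
    have : C u = (C v)ᶜ := Set.ext fun x => ⟨hdisj x, fun h => (hcover x).resolve_right h⟩
    rw [this]
    exact (hclosed v hv).isOpen_compl⟩
  rcases isClopen_iff.mp hclop with h | h
  · refine Or.inr fun z hz => (huv hz).resolve_left fun hzu => ?_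
    exact Set.eq_empty_iff_forall_notMem.mp h z ⟨z, specializes_rfl, hz, hzu⟩
  · refine Or.inl fun z hz => (huv hz).resolve_right fun hzv => ?_
    exact hdisj z (h ▸ Set.mem_univ z) ⟨z, specializes_rfl, hz, hzv⟩

omit [CommRing B] [IsLocalRing B] [Algebra A B] [IsLocalHom (algebraMap A B)] [Module.Flat A B] in
/-- The global form. -/
theorem isConnected_compl_closedFibre (hA : CAlg2.IsGeomUnibranch A) (hdim : 2 ≤ ringKrullDim A)
    {X : Scheme.{u}} [IsLocallyNoetherian X] [ConnectedSpace ↥X] (f : X ⟶ Spec (CommRingCat.of A)) [Flat f]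
    (T : Set ↥X) (hT : IsClosed T) (hTy : ∀ x ∈ T, f.base x = IsLocalRing.closedPoint A) :
    _root_.IsConnected Tᶜ := by
  refine isConnected_compl_of_generizations T hT fun x => ?_
  by_cases hx : x ∈ T
  swap
  · refine ⟨⟨x, specializes_rfl, hx⟩, ?_⟩
    refine isPreconnected_iff_subset_of_disjoint.mpr fun u v hu hv huv hd => ?_
    rcases huv (show x ∈ {z : X | z ⤳ x ∧ z ∉ T} from ⟨specializes_rfl, hx⟩) with h | h
    · exact Or.inl fun z hz => hz.1.mem_open hu h
    · exact Or.inr fun z hz => hz.1.mem_open hv h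
  obtain ⟨φ, hφ⟩ := Spec.map_surjective (X.fromSpecStalk x ≫ f)
  letI := φ.hom.toAlgebra
  haveI : Flat (Spec.map φ) := by
    rw [hφ]
    haveI := GrpScheme.HomFlat.flat_fromSpecStalk x
    exact inferInstance
  haveI : Module.Flat A (X.presheaf.stalk x) :=
    RingHom.flat_algebraMap_iff.mp ((HasRingHomProperty.Spec_iff (P := @Flat)).mp ‹Flat (Spec.map φ)›)
  have hclosed : PrimeSpectrum.comap (algebraMap A (X.presheaf.stalk x)) (IsLocalRing.closedPoint (X.presheaf.stalk x)) =
      IsLocalRing.closedPoint A := by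
    show Spec.map φ (IsLocalRing.closedPoint (X.presheaf.stalk x)) = _
    rw [hφ, Scheme.Hom.comp_apply, Scheme.fromSpecStalk_closedPoint]
    exact hTy x hx
  haveI : IsLocalHom (algebraMap A (X.presheaf.stalk x)) :=
    ((IsLocalRing.local_hom_TFAE (algebraMap A (X.presheaf.stalk x))).out 0 4).mpr
      (congrArg PrimeSpectrum.asIdeal hclosed)
  let W := PrimeSpectrum.comap (algebraMap A (X.presheaf.stalk x)) ⁻¹' {IsLocalRing.closedPoint A}ᶜ
  have hpt : ∀ Q, f.base (X.fromSpecStalk x Q) = PrimeSpectrum.comap (algebraMap A (X.presheaf.stalk x)) Q := fun Q => by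
    show _ = Spec.map φ Q
    rw [hφ]
    rfl
  refine ((isConnected_offClosedPoint A (X.presheaf.stalk x) hA hdim).image _
    (X.fromSpecStalk x).continuous.continuousOn).subset_closure ?_ ?_
  · rintro _ ⟨Q, hQ, rfl⟩
    refine ⟨?_, fun hQT => hQ ((hpt Q).symm.trans (hTy _ hQT))⟩
    have h : X.fromSpecStalk x Q ∈ Set.range (X.fromSpecStalk x) := ⟨Q, rfl⟩
    rwa [Scheme.range_fromSpecStalk] at h
  · rintro z ⟨hz, -⟩
    obtain ⟨Q, rfl⟩ : z ∈ Set.range (X.fromSpecStalk x) := by
      rw [Scheme.range_fromSpecStalk]; exact hz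
    obtain ⟨P, hPQ, hP, hover⟩ := Ideal.exists_ideal_le_liesOver_of_le (p := (⊥ : Ideal A))
      (q := Q.asIdeal.under A) Q.asIdeal bot_le
    have hspec : (⟨P, hP⟩ : PrimeSpectrum (X.presheaf.stalk x)) ⤳ Q :=
      (PrimeSpectrum.le_iff_specializes ⟨P, hP⟩ Q).mp hPQ
    refine (hspec.map (X.fromSpecStalk x).continuous).mem_closed isClosed_closure (subset_closure ⟨_, ?_, rfl⟩)
    intro h
    have h1 := congrArg PrimeSpectrum.asIdeal h
    have h2 := (IsLocalRing.maximalIdeal_height_eq_ringKrullDim (R := A))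
    rw [show maximalIdeal A = (⊥ : Ideal A) from h1.symm.trans hover.over.symm, Ideal.height_bot] at h2
    rw [← h2] at hdim
    exact absurd hdim (by decide)

end Groth.Agent.UnibFib
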