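import Groth.Agent.RedNorm.Basic
import Groth.Agent.CAlgLib.Mori
import Groth.Agent.VarDim.Algebra
import Groth.Prelude.Def_FEt
import Mathlib.AlgebraicGeometry.AffineScheme

/-!
# Sections of a reduced Noetherian local scheme off the closed point
-/

set_option autoImplicit false
set_option backward.isDefEq.respectTransparency false
set_option linter.style.haveILetI false

universe u

open IsLocalRing CategoryTheory AlgebraicGeometry Opposite TopologicalSpace

namespace Groth.Agent.UnibFib.PuncturedRed

section Algebra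

variable (A : Type u) [CommRing A] [IsNoetherianRing A] [IsLocalRing A] [IsReduced A]

/-- An element of the total ring of fractions defined off the closed point is integral when every
maximal ideal of the normalisation has height at least two. -/
theorem isIntegral_of_forall_pow_mul
    (hdim : ∀ (m' : Ideal ↥(integralClosure A (FractionRing A))) [m'.IsMaximal],
      m'.comap (algebraMap A ↥(integralClosure A (FractionRing A))) = maximalIdeal A →
        2 ≤ ringKrullDim (Localization.AtPrime m'))
    (x : FractionRing A)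
    (hx : ∀ a ∈ maximalIdeal A, ∃ n : ℕ, ∃ b : A,
      algebraMap A (FractionRing A) (a ^ n) * x = algebraMap A _ b) :
    IsIntegral A x := by
  classical
  haveI : Finite ↥(minimalPrimes A) := (minimalPrimes.finite_of_isNoetherianRing A).to_subtype
  cases nonempty_fintype ↥(minimalPrimes A)
  let π := RedNorm.piEquiv A
  suffices h : IsIntegral A (π x) by simpa using h.map π.symm.toAlgHom
  rw [RedNorm.isIntegral_pi_iff]
  intro i
  let D := A ⧸ i.1
  let K := FractionRing D
  haveI : IsLocalRing D := IsLocalRing.of_surjective' (Ideal.Quotient.mk i.1) Ideal.Quotient.mk_surjective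
  rw [← RedNorm.isIntegral_quotient_iff i.1]
  let S : Subalgebra D K := integralClosure D K
  haveI : Algebra.IsIntegral D S := ⟨fun y => (isIntegral_algHom_iff S.val Subtype.val_injective).1 y.2⟩
  by_contra hxS
  obtain ⟨q, hq, hq1, hle⟩ := CAlgLib.Mori.exists_heightOne (CAlgLib.Mori.finiteCut D K) (x := π x i) hxS
  change Ideal S at q
  haveI : q.IsPrime := hq
  have hmax : maximalIdeal D ≤ q.comap (algebraMap D S) := by
    intro d hd
    obtain ⟨a, rfl⟩ := Ideal.Quotient.mk_surjective d
    have ha : a ∈ maximalIdeal A := by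
      rw [mem_maximalIdeal, mem_nonunits_iff] at hd ⊢
      exact fun hu => hd (hu.map _)
    obtain ⟨n, b, hb⟩ := hx a ha
    have hb' := congrArg (fun z => π z i) hb
    simp only [map_mul, AlgEquiv.commutes, Pi.mul_apply, RedNorm.algebraMap_piFrac_eq] at hb'
    have hmem : algebraMap D S (Ideal.Quotient.mk i.1 (a ^ n)) ∈ q :=
      hle (show ((algebraMap D S (Ideal.Quotient.mk i.1 (a ^ n)) : S) : K) * π x i ∈ S.toSubring from by
        rw [show ((algebraMap D S (Ideal.Quotient.mk i.1 (a ^ n)) : S) : K) =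
          algebraMap D K (Ideal.Quotient.mk i.1 (a ^ n)) from rfl, hb']
        exact S.algebraMap_mem _)
    rw [map_pow, map_pow] at hmem
    exact hq.mem_of_pow_mem n hmem
  haveI : (q.comap (algebraMap D S)).IsPrime := Ideal.IsPrime.comap _
  have hqD : q.comap (algebraMap D S) = maximalIdeal D :=
    ((IsLocalRing.maximalIdeal.isMaximal D).eq_of_le (Ideal.IsPrime.ne_top inferInstance) hmax).symm
  haveI hqmax : q.IsMaximal := Ideal.isMaximal_of_isIntegral_of_isMaximal_comap (R := D) q
    (by rw [hqD]; exact IsLocalRing.maximalIdeal.isMaximal D)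
  -- the corresponding maximal ideal of the normalisation
  set φ := RedNorm.normEquiv A
  let f : integralClosure A (FractionRing A) →+* S :=
    (Pi.evalRingHom _ i).comp φ.toAlgHom.toRingHom
  have hf : Function.Surjective f := fun y => ⟨φ.symm (Pi.single i y), by
    show φ (φ.symm (Pi.single i y)) i = y
    rw [AlgEquiv.apply_symm_apply, Pi.single_eq_same]⟩
  let m' := q.comap f
  haveI : m'.IsMaximal := Ideal.comap_isMaximal_of_surjective f hf
  have hover : m'.comap (algebraMap A ↥(integralClosure A (FractionRing A))) = maximalIdeal A := by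
    have hfc : f.comp (algebraMap A ↥(integralClosure A (FractionRing A))) =
        (algebraMap D S).comp (Ideal.Quotient.mk i.1) := by
      refine RingHom.ext fun a => ?_
      show φ (algebraMap A _ a) i = _
      rw [AlgEquiv.commutes]
      rfl
    rw [Ideal.comap_comap, hfc, ← Ideal.comap_comap, hqD]
    haveI := Ideal.comap_isMaximal_of_surjective (Ideal.Quotient.mk i.1) Ideal.Quotient.mk_surjective
      (K := maximalIdeal D)
    exact IsLocalRing.eq_maximalIdeal inferInstance
  have h2 := hdim m' hover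
  set e := φ.symm (Pi.single i 1)
  have hei : f e = 1 := by
    show φ (φ.symm (Pi.single i 1)) i = 1
    rw [AlgEquiv.apply_symm_apply, Pi.single_eq_same]
  have he : e ∉ m' := fun h => hqmax.ne_top ((Ideal.eq_top_iff_one q).mpr (hei ▸ h))
  have hker : ∀ z, f z = 0 → e * z = 0 := fun z hz => by
    apply φ.injective
    rw [map_mul, map_zero, AlgEquiv.apply_symm_apply]
    funext j
    by_cases hj : j = i
    · subst hj
      show _ * φ z j = 0
      rw [show φ z j = 0 from hz, mul_zero]
    · rw [Pi.mul_apply, Pi.single_eq_of_ne hj, zero_mul, Pi.zero_apply]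
  rw [ringKrullDim_eq_of_ringEquiv
      (RingEquiv.ofBijective _ (RedNorm.bijective_localRingHom_of_surjective f hf m' q rfl e he hker)),
    IsLocalization.AtPrime.ringKrullDim_eq_height q, hq1] at h2
  exact absurd h2 (by decide)

/-- There is a nonzerodivisor in the maximal ideal. -/
theorem exists_nonZeroDivisor
    (hdim : ∀ (m' : Ideal ↥(integralClosure A (FractionRing A))) [m'.IsMaximal],
      m'.comap (algebraMap A ↥(integralClosure A (FractionRing A))) = maximalIdeal A →
        2 ≤ ringKrullDim (Localization.AtPrime m')) :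
    ∃ a ∈ maximalIdeal A, a ∈ nonZeroDivisors A := by
  classical
  haveI : Finite ↥(minimalPrimes A) := (minimalPrimes.finite_of_isNoetherianRing A).to_subtype
  cases nonempty_fintype ↥(minimalPrimes A)
  haveI : Nontrivial (FractionRing A) := (IsFractionRing.injective A (FractionRing A)).nontrivial
  obtain ⟨m', hm'⟩ := Ideal.exists_maximal ↥(integralClosure A (FractionRing A))
  haveI := hm'
  haveI : FaithfulSMul A ↥(integralClosure A (FractionRing A)) :=
    (faithfulSMul_iff_algebraMap_injective A _).mpr fun a b h =>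
      IsFractionRing.injective A (FractionRing A) (congrArg Subtype.val h)
  haveI : Algebra.IsIntegral A ↥(integralClosure A (FractionRing A)) :=
    ⟨fun y => (isIntegral_algHom_iff (integralClosure A (FractionRing A)).val Subtype.val_injective).1 y.2⟩
  haveI := Ideal.isMaximal_comap_of_isIntegral_of_isMaximal (R := A) m'
  have h2 := hdim m' (IsLocalRing.eq_maximalIdeal inferInstance)
  have hA : (2 : WithBot ℕ∞) ≤ ringKrullDim A := by
    rw [← VarDim.ringKrullDim_eq_of_isIntegral (R := A) (S := ↥(integralClosure A (FractionRing A)))]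
    rw [IsLocalization.AtPrime.ringKrullDim_eq_height m' (Localization.AtPrime m')] at h2
    exact h2.trans (Ideal.height_le_ringKrullDim_of_ne_top hm'.ne_top)
  by_contra hcon
  push Not at hcon
  have hsub : ((maximalIdeal A : Ideal A) : Set A) ⊆
      ⋃ p ∈ (Finset.univ : Finset ↥(minimalPrimes A)), (p.1 : Set A) := by
    intro a ha
    have := hcon a ha
    rw [RedNorm.mem_nonZeroDivisors_iff] at this
    push Not at this
    obtain ⟨p, hp⟩ := this
    exact Set.mem_iUnion₂.mpr ⟨p, Finset.mem_univ p, hp⟩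
  rcases isEmpty_or_nonempty ↥(minimalPrimes A) with hemp | ⟨⟨p₀⟩⟩
  · obtain ⟨p, -, -⟩ := Set.mem_iUnion₂.mp (hsub (maximalIdeal A).zero_mem)
    exact hemp.false p
  have hsub' : ((maximalIdeal A : Ideal A) : Set A) ⊆
      ⋃ p ∈ (↑(Finset.univ : Finset ↥(minimalPrimes A)) : Set ↥(minimalPrimes A)), (p.1 : Set A) := by
    simpa using hsub
  obtain ⟨p, -, hp⟩ := (Ideal.subset_union_prime p₀ p₀ fun p _ _ _ => p.2.1.1).mp hsub'
  have hmin : maximalIdeal A ∈ minimalPrimes A := by
    rw [(IsLocalRing.maximalIdeal.isMaximal A).eq_of_le p.2.1.1.ne_top hp]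
    exact p.2
  have h0 : (maximalIdeal A).height = 0 := by
    exact Ideal.height_eq_zero_iff.mpr hmin
  rw [← IsLocalRing.maximalIdeal_height_eq_ringKrullDim, h0] at hA
  exact absurd hA (by decide)

end Algebra

section Sections

variable (R : CommRingCat.{u})

/-- Restriction from `R` to an open. -/
noncomputable def ρ (V : (Spec R).Opens) : R →+* Γ(Spec R, V) :=
  ((Spec R).presheaf.map (homOfLE (le_top : V ≤ ⊤)).op).hom.comp (Scheme.ΓSpecIso R).inv.hom

theorem res_ρ {V W : (Spec R).Opens} (h : W ≤ V) (r : R) :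
    (Spec R).presheaf.map (homOfLE h).op (ρ R V r) = ρ R W r := by
  simp only [ρ, RingHom.comp_apply]
  rw [← CommRingCat.comp_apply, ← Functor.map_comp, ← op_comp, homOfLE_comp]

theorem res_res {U V W : (Spec R).Opens} (h : V ≤ U) (h' : W ≤ V) (t : Γ(Spec R, U)) :
    (Spec R).presheaf.map (homOfLE h').op ((Spec R).presheaf.map (homOfLE h).op t) =
      (Spec R).presheaf.map (homOfLE (h'.trans h)).op t := by
  rw [← CommRingCat.comp_apply, ← Functor.map_comp, ← op_comp, homOfLE_comp]

/-- The basic open of `b` as an open of `Spec R`. -/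
noncomputable abbrev D (b : R) : (Spec R).Opens := (Spec R).basicOpen ((Scheme.ΓSpecIso R).inv b)

theorem mem_D {b : R} {y : Spec R} : y ∈ D R b ↔ b ∉ y.asIdeal := by
  rw [D, basicOpen_eq_of_affine]
  rfl

theorem exists_frac (b : R) (t : Γ(Spec R, D R b)) :
    ∃ (n : ℕ) (c : R), t * ρ R (D R b) (b ^ n) = ρ R (D R b) c := by
  haveI := (isAffineOpen_top (Spec R)).isLocalization_basicOpen ((Scheme.ΓSpecIso R).inv b)
  obtain ⟨⟨x, ⟨_, n, rfl⟩⟩, h⟩ :=
    IsLocalization.surj (Submonoid.powers ((Scheme.ΓSpecIso R).inv b)) t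
  refine ⟨n, (Scheme.ΓSpecIso R).hom x, ?_⟩
  refine Eq.trans ?_ (h.trans ?_)
  · congr 1
    show ((Spec R).presheaf.map _).hom ((Scheme.ΓSpecIso R).inv.hom (b ^ n)) =
      algebraMap Γ(Spec R, ⊤) Γ(Spec R, (Spec R).basicOpen _) (((Scheme.ΓSpecIso R).inv.hom b) ^ n)
    rw [map_pow]
    rfl
  · show _ = ((Spec R).presheaf.map _).hom ((Scheme.ΓSpecIso R).inv.hom ((Scheme.ΓSpecIso R).hom.hom x))
    rw [Iso.hom_inv_id_apply]
    rfl

theorem exists_pow_mul_eq_zero (b c : R) (h : ρ R (D R b) c = 0) : ∃ k : ℕ, b ^ k * c = 0 := by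
  haveI := (isAffineOpen_top (Spec R)).isLocalization_basicOpen ((Scheme.ΓSpecIso R).inv b)
  obtain ⟨⟨_, k, rfl⟩, hk⟩ := (IsLocalization.map_eq_zero_iff (Submonoid.powers ((Scheme.ΓSpecIso R).inv b))
    Γ(Spec R, (Spec R).basicOpen ((Scheme.ΓSpecIso R).inv b)) _).mp h
  refine ⟨k, ?_⟩
  have hk' := congrArg (Scheme.ΓSpecIso R).hom.hom hk
  simpa [map_mul, map_pow, map_zero] using hk'

theorem isUnit_ρ (b : R) : IsUnit (ρ R (D R b) b) :=
  RingedSpace.isUnit_res_basicOpen (Spec R).toLocallyRingedSpace.toRingedSpace ((Scheme.ΓSpecIso R).inv b)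

theorem isUnit_ρ_of_le {b : R} {V : (Spec R).Opens} (h : V ≤ D R b) : IsUnit (ρ R V b) := by
  rw [← res_ρ R h b]
  exact (isUnit_ρ R b).map _

end Sections

section Main

variable (A : Type u) [CommRing A] [IsNoetherianRing A] [IsLocalRing A] [IsReduced A]

omit [IsNoetherianRing A] [IsReduced A] in
theorem D_le_punctured {b : A} (hb : b ∈ maximalIdeal A) :
    D (CommRingCat.of A) b ≤ FEt.puncturedSpec A := by
  intro y hy
  show y ∈ ({IsLocalRing.closedPoint A}ᶜ : Set (PrimeSpectrum A))
  rintro (rfl : y = IsLocalRing.closedPoint A)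
  exact (mem_D (CommRingCat.of A)).mp hy hb

set_option maxHeartbeats 800000 in
-- gluing of fractions over the cover by basic opens
/-- Sections off the closed point embed into the normalisation. -/
theorem exists_hom
    (hdim : ∀ (m' : Ideal ↥(integralClosure A (FractionRing A))) [m'.IsMaximal],
      m'.comap (algebraMap A ↥(integralClosure A (FractionRing A))) = maximalIdeal A →
        2 ≤ ringKrullDim (Localization.AtPrime m')) :
    ∃ φ : Γ(Spec (CommRingCat.of A), FEt.puncturedSpec A) →+* ↥(integralClosure A (FractionRing A)),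
      Function.Injective φ ∧
        φ.comp (ρ (CommRingCat.of A) (FEt.puncturedSpec A)) =
          algebraMap A ↥(integralClosure A (FractionRing A)) := by
  classical
  obtain ⟨a, ha, ha0⟩ := exists_nonZeroDivisor A hdim
  let R := CommRingCat.of A
  let Q := FractionRing A
  let ι : A →+* Q := algebraMap A Q
  let g : Γ(Spec R, ⊤) →+* Q := ι.comp (Scheme.ΓSpecIso R).hom.hom
  haveI := (isAffineOpen_top (Spec R)).isLocalization_basicOpen ((Scheme.ΓSpecIso R).inv a)
  have hga : IsUnit (g ((Scheme.ΓSpecIso R).inv a)) := by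
    show IsUnit (ι ((Scheme.ΓSpecIso R).hom.hom ((Scheme.ΓSpecIso R).inv.hom a)))
    rw [show (Scheme.ΓSpecIso R).hom.hom ((Scheme.ΓSpecIso R).inv.hom a) = a from
      Iso.inv_hom_id_apply (Scheme.ΓSpecIso R) a]
    exact IsLocalization.map_units Q ⟨a, ha0⟩
  let ψ₀ : Γ(Spec R, D R a) →+* Q := IsLocalization.Away.lift (S := Γ(Spec R, D R a)) _ hga
  have hψ₀ : ∀ c : A, ψ₀ (ρ R (D R a) c) = ι c := fun c => by
    refine (IsLocalization.Away.lift_eq _ hga ((Scheme.ΓSpecIso R).inv c)).trans ?_
    show ι ((Scheme.ΓSpecIso R).hom.hom ((Scheme.ΓSpecIso R).inv.hom c)) = ι c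
    exact congrArg ι (Iso.inv_hom_id_apply (Scheme.ΓSpecIso R) c)
  have hle := D_le_punctured A ha
  let ψ : Γ(Spec R, FEt.puncturedSpec A) →+* Q :=
    ψ₀.comp ((Spec R).presheaf.map (homOfLE hle).op).hom
  have hψρ : ∀ c : A, ψ (ρ R (FEt.puncturedSpec A) c) = ι c := fun c =>
    (congrArg ψ₀ (res_ρ R hle c)).trans (hψ₀ c)
  -- the key relation
  have key : ∀ (t : Γ(Spec R, FEt.puncturedSpec A)) (b : A) (hb : b ∈ maximalIdeal A), ∃ (n : ℕ) (c : A),
      ι (b ^ n) * ψ t = ι c ∧
        (Spec R).presheaf.map (homOfLE (D_le_punctured A hb)).op t * ρ R (D R b) (b ^ n) = ρ R (D R b) c := by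
    intro t b hb
    obtain ⟨n, c, hc⟩ := exists_frac R b ((Spec R).presheaf.map (homOfLE (D_le_punctured A hb)).op t)
    obtain ⟨m, d, hd⟩ := exists_frac R a ((Spec R).presheaf.map (homOfLE hle).op t)
    have hD : ψ t * ι (a ^ m) = ι d := by
      have h1 := congrArg ψ₀ hd
      rw [map_mul, hψ₀, hψ₀] at h1
      exact h1
    have hab : D R (a * b) ≤ D R a ∧ D R (a * b) ≤ D R b := by
      constructor <;> intro y hy <;> rw [mem_D] at hy ⊢ <;> intro h
      · exact hy (y.asIdeal.mul_mem_right _ h)
      · exact hy (y.asIdeal.mul_mem_left _ h)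
    have hz : ρ R (D R (a * b)) (d * b ^ n - a ^ m * c) = 0 := by
      have h1 := congrArg ((Spec R).presheaf.map (homOfLE hab.1).op) hd
      have h2 := congrArg ((Spec R).presheaf.map (homOfLE hab.2).op) hc
      rw [map_mul, res_res, res_ρ, res_ρ] at h1 h2
      rw [map_sub, map_mul, map_mul, ← h1, ← h2]
      ring
    obtain ⟨k, hk⟩ := exists_pow_mul_eq_zero R (a * b) _ hz
    have hk' : b ^ k * (d * b ^ n - a ^ m * c) = 0 :=
      (mem_nonZeroDivisors_iff_left.mp (pow_mem ha0 k)) _ (by rw [← hk, mul_pow, mul_assoc])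
    refine ⟨k + n, b ^ k * c, ?_, ?_⟩
    · have hu : IsUnit (ι (a ^ m)) := IsLocalization.map_units Q ⟨a ^ m, pow_mem ha0 m⟩
      apply hu.mul_left_cancel
      have h3 := congrArg ι hk'
      rw [map_mul, map_sub, map_mul, map_mul, map_zero, ← hD] at h3
      rw [pow_add, map_mul, map_mul]
      linear_combination h3
    · rw [pow_add, map_mul, map_mul, ← hc]
      ring
  have hint : ∀ t, IsIntegral A (ψ t) := fun t =>
    isIntegral_of_forall_pow_mul A hdim (ψ t) fun b hb => by
      obtain ⟨n, c, hc, -⟩ := key t b hb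
      exact ⟨n, c, hc⟩
  refine ⟨ψ.codRestrict (integralClosure A Q).toSubring hint, ?_, RingHom.ext fun c => Subtype.ext (hψρ c)⟩
  rw [injective_iff_map_eq_zero]
  intro t ht
  have ht' : ψ t = 0 := congrArg Subtype.val ht
  refine TopCat.Sheaf.eq_of_locally_eq' (Spec R).sheaf (fun b : maximalIdeal A => D R (b : A)) _
    (fun b => homOfLE (D_le_punctured A b.2)) ?_ _ _ fun b => ?_
  · intro y hy
    rw [TopologicalSpace.Opens.mem_iSup]
    by_contra hcon
    push Not at hcon
    refine hy ?_
    show y = IsLocalRing.closedPoint A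
    refine PrimeSpectrum.ext ((IsLocalRing.maximalIdeal.isMaximal A).eq_of_le y.isPrime.ne_top ?_).symm
    intro b hb
    by_contra hby
    exact hcon ⟨b, hb⟩ ((mem_D R).mpr hby)
  · show (Spec R).presheaf.map (homOfLE (D_le_punctured A b.2)).op t =
      (Spec R).presheaf.map (homOfLE (D_le_punctured A b.2)).op 0
    rw [map_zero]
    obtain ⟨n, c, hc, hc'⟩ := key t b b.2
    rw [ht', mul_zero] at hc
    rw [IsFractionRing.injective A Q (hc.symm.trans (map_zero ι).symm), map_zero] at hc'
    refine ((IsUnit.mul_left_eq_zero ?_)).mp hc'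
    rw [map_pow]
    exact (isUnit_ρ R (b : A)).pow n

end Main

end Groth.Agent.UnibFib.PuncturedRed
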